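import Groth.Agent.Lib.MilnorSqH7.Glue
import Mathlib.RingTheory.IsTensorProduct

/-!
Finite presentation over an algebra above a Milnor square.
-/

universe u

open TensorProduct

namespace Groth.Agent.MilnorH7

section weak

variable {B' B A' A : Type u} [CommRing B'] [CommRing B] [CommRing A'] [CommRing A]
  [Algebra B' B] [Algebra B' A'] [Algebra B A] [Algebra A' A] [Algebra B' A]
  [IsScalarTower B' B A] [IsScalarTower B' A' A]
  {N M' : Type u} [AddCommGroup N] [Module B N] [Module B' N] [IsScalarTower B' B N]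
  [AddCommGroup M'] [Module A' M'] [Module B' M'] [IsScalarTower B' A' M']
  (φ : A ⊗[B] N ≃ₗ[A] A ⊗[A'] M')

theorem glue_baseChange_snd_bijective_of_weak (hw : Weak B' B A' A) :
    Function.Bijective (LinearMap.liftBaseChange A' (EtMil.glueSnd B' φ)) := by
  constructor
  · rw [injective_iff_map_eq_zero]
    intro x hx
    let e₁ := LinearEquiv.ofBijective _ (glue_baseChange_fst_bijective φ hw)
    let G : A ⊗[B'] ↥(EtMil.glue B' φ) ≃ₗ[A] A ⊗[A'] M' :=
      (TensorProduct.AlgebraTensorModule.cancelBaseChange B' B A A ↥(EtMil.glue B' φ)).symm ≪≫ₗ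
        (TensorProduct.AlgebraTensorModule.congr (LinearEquiv.refl A A) e₁) ≪≫ₗ φ
    have hG : ∀ z : A' ⊗[B'] ↥(EtMil.glue B' φ),
        G ((IsScalarTower.toAlgHom B' A' A).toLinearMap.rTensor _ z) =
          (1 : A) ⊗ₜ[A'] LinearMap.liftBaseChange A' (EtMil.glueSnd B' φ) z := by
      intro z
      induction z using TensorProduct.induction_on with
      | zero => simp
      | tmul a l =>
        have hl : φ ((1 : A) ⊗ₜ[B] l.1.1) = (1 : A) ⊗ₜ[A'] l.1.2 := l.2
        simp [G, e₁, EtMil.glueFst, EtMil.glueSnd]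
        have : algebraMap A' A a ⊗ₜ[B] l.1.1 = algebraMap A' A a • ((1 : A) ⊗ₜ[B] l.1.1) := by
          rw [TensorProduct.smul_tmul', smul_eq_mul, mul_one]
        rw [this, map_smul, hl, IsScalarTower.algebraMap_smul]
      | add a b ha hb => simp only [map_add, ha, hb, TensorProduct.tmul_add]
    have h0 : (IsScalarTower.toAlgHom B' A' A).toLinearMap.rTensor _ x = 0 := by
      apply G.injective
      rw [hG, hx, TensorProduct.tmul_zero, map_zero]
    obtain ⟨l, hl, rfl⟩ := exists_one_tmul_of_rTensor_eq_zero _ hw h0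
    have h1 : EtMil.glueFst B' φ l = 0 := by
      clear hx h0
      induction hl using Submodule.smul_induction_on' with
      | smul j hj m _ => rw [map_smul, ← IsScalarTower.algebraMap_smul B j, RingHom.mem_ker.1 hj, zero_smul]
      | add a _ b _ ha hb => rw [map_add, ha, hb, add_zero]
    have h2 : EtMil.glueSnd B' φ l = 0 := by simpa using hx
    have : l = 0 := Subtype.ext (Prod.ext h1 h2)
    rw [this, TensorProduct.tmul_zero]
  · rw [← LinearMap.range_eq_top, eq_top_iff, ← span_snd_eq_top (B' := B') (A := A) φ hw.surjA, Submodule.span_le]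
    rintro _ ⟨l, rfl⟩
    exact ⟨(1 : A') ⊗ₜ[B'] l, by simp⟩

end weak

section pushout

variable {B' S P T : Type u} [CommRing B'] [CommRing S] [CommRing P] [CommRing T]
  [Algebra B' S] [Algebra B' P] [Algebra B' T] [Algebra S T] [Algebra P T]
  [IsScalarTower B' S T] [IsScalarTower B' P T] [Algebra.IsPushout B' S P T]

theorem cancel_natural {X Y : Type u} [AddCommGroup X] [Module P X] [Module B' X] [IsScalarTower B' P X]
    [AddCommGroup Y] [Module P Y] [Module B' Y] [IsScalarTower B' P Y] (f : X →ₗ[P] Y) (z : S ⊗[B'] X) :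
    f.baseChange T ((Algebra.IsPushout.cancelBaseChange B' S P T X).symm z) =
      (Algebra.IsPushout.cancelBaseChange B' S P T Y).symm ((f.restrictScalars B').baseChange S z) := by
  induction z using TensorProduct.induction_on with
  | zero => simp
  | tmul s x => simp
  | add a b ha hb => simp only [map_add, ha, hb]

theorem exists_finset_bijective (L : Type u) [AddCommGroup L] [Module P L] [Module B' L] [IsScalarTower B' P L]
    [Module.FinitePresentation T (T ⊗[P] L)] {n : ℕ} (p : (Fin n → P) →ₗ[P] L) (hp : Function.Surjective p) :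
    ∃ s : Finset ↥(LinearMap.ker p), ∀ (K₀ : Submodule P (Fin n → P)) (hK₀ : K₀ ≤ LinearMap.ker p),
      (∀ k ∈ s, (k : Fin n → P) ∈ K₀) →
      Function.Bijective (((K₀.liftQ p hK₀).restrictScalars B').baseChange S) := by
  classical
  have hsurj : Function.Surjective (p.baseChange T) := LinearMap.lTensor_surjective T hp
  have hfg : (LinearMap.ker (p.baseChange T)).FG := Module.FinitePresentation.fg_ker _ hsurj
  obtain ⟨m, b, hb⟩ := Submodule.fg_iff_exists_fin_generating_family.1 hfg
  have hbk : ∀ i, ∃ t : T ⊗[P] ↥(LinearMap.ker p), (LinearMap.ker p).subtype.lTensor T t = b i := fun i => by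
    have : b i ∈ LinearMap.ker (p.baseChange T) := hb ▸ Submodule.subset_span ⟨i, rfl⟩
    exact (lTensor_exact T (LinearMap.exact_subtype_ker_map p) hp _).1 (LinearMap.mem_ker.1 this)
  choose t ht using hbk
  choose sf hsf using fun i => TensorProduct.exists_finset (t i)
  refine ⟨Finset.univ.biUnion fun i => (sf i).image Prod.snd, fun K₀ hK₀ hs => ?_⟩
  let q := K₀.liftQ p hK₀
  have hq : Function.Surjective q := fun l => by
    obtain ⟨x, rfl⟩ := hp l
    exact ⟨Submodule.Quotient.mk x, rfl⟩
  have hT : Function.Injective (q.baseChange T) := (injective_iff_map_eq_zero _).2 fun x hx => by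
    obtain ⟨z, rfl⟩ := LinearMap.lTensor_surjective T K₀.mkQ_surjective x
    have hz : z ∈ LinearMap.ker (p.baseChange T) := by
      rw [LinearMap.mem_ker]
      show p.lTensor T z = 0
      rw [show p = q.comp K₀.mkQ from rfl, LinearMap.lTensor_comp, LinearMap.comp_apply]
      exact hx
    have hle : Submodule.span T (Set.range b) ≤ LinearMap.ker (K₀.mkQ.baseChange T) := by
      refine Submodule.span_le.2 ?_
      rintro _ ⟨i, rfl⟩
      show K₀.mkQ.lTensor T (b i) = 0
      rw [← ht i, hsf i, map_sum, map_sum]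
      refine Finset.sum_eq_zero fun r hr => ?_
      have hmem : (r.2 : Fin n → P) ∈ K₀ :=
        hs r.2 (Finset.mem_biUnion.2 ⟨i, Finset.mem_univ i, Finset.mem_image_of_mem _ hr⟩)
      simp [(Submodule.Quotient.mk_eq_zero K₀).2 hmem]
    exact hle (hb ▸ hz)
  refine ⟨(injective_iff_map_eq_zero _).2 fun z hz => ?_, LinearMap.lTensor_surjective S hq⟩
  apply (Algebra.IsPushout.cancelBaseChange B' S P T _).symm.injective
  rw [map_zero]
  apply hT
  rw [cancel_natural, hz, map_zero, map_zero]

end pushout

section pair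

variable {B' B A' A : Type u} [CommRing B'] [CommRing B] [CommRing A'] [CommRing A]
  [Algebra B' B] [Algebra B' A'] [Algebra B A] [Algebra A' A] [Algebra B' A]
  [IsScalarTower B' B A] [IsScalarTower B' A' A]

theorem finitePresentation_of_pair_pushout (h : EtMil.IsFibreSquare B' B A' A)
    (P D C : Type u) [CommRing P] [Algebra B' P] [CommRing D] [Algebra B' D] [Algebra B D] [Algebra P D]
    [IsScalarTower B' B D] [IsScalarTower B' P D] [Algebra.IsPushout B' B P D]
    [CommRing C] [Algebra B' C] [Algebra A' C] [Algebra P C]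
    [IsScalarTower B' A' C] [IsScalarTower B' P C] [Algebra.IsPushout B' A' P C]
    (L : Type u) [AddCommGroup L] [Module P L] [Module B' L] [IsScalarTower B' P L] [Module.Finite P L]
    [Module.Flat B (B ⊗[B'] L)] [Module.FinitePresentation D (D ⊗[P] L)]
    [Module.Flat A' (A' ⊗[B'] L)] [Module.FinitePresentation C (C ⊗[P] L)] :
    Module.FinitePresentation P L := by
  classical
  obtain ⟨n, p, hp⟩ := Module.Finite.exists_fin' P L
  obtain ⟨s, hs⟩ := exists_finset_bijective (B' := B') (S := B) (T := D) L p hp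
  obtain ⟨t, ht⟩ := exists_finset_bijective (B' := B') (S := A') (T := C) L p hp
  let K₀ : Submodule P (Fin n → P) :=
    Submodule.span P (↑((s ∪ t).image fun k : ↥(LinearMap.ker p) => (k : Fin n → P)) : Set _)
  have hK₀ : K₀ ≤ LinearMap.ker p := Submodule.span_le.2 (by
    intro x hx
    obtain ⟨k, -, rfl⟩ := Finset.mem_image.1 (Finset.mem_coe.1 hx)
    exact k.2)
  have hmem : ∀ k ∈ s ∪ t, (k : Fin n → P) ∈ K₀ := fun k hk =>
    Submodule.subset_span (Finset.mem_coe.2 (Finset.mem_image_of_mem _ hk))
  have hB := hs K₀ hK₀ fun k hk => hmem k (Finset.mem_union_left _ hk)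
  have hA := ht K₀ hK₀ fun k hk => hmem k (Finset.mem_union_right _ hk)
  let q : ((Fin n → P) ⧸ K₀) →ₗ[B'] L := (K₀.liftQ p hK₀).restrictScalars B'
  haveI : Module.Flat B (B ⊗[B'] ((Fin n → P) ⧸ K₀)) :=
    Module.Flat.of_linearEquiv (LinearEquiv.ofBijective _ hB)
  haveI : Module.Flat A' (A' ⊗[B'] ((Fin n → P) ⧸ K₀)) :=
    Module.Flat.of_linearEquiv (LinearEquiv.ofBijective _ hA)
  haveI := flat_of_pair h ((Fin n → P) ⧸ K₀)
  have hinj : Function.Injective q := (injective_iff_map_eq_zero _).2 fun x hx =>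
    eq_zero_of_pair h _ (hB.1 (by rw [LinearMap.baseChange_tmul, hx, TensorProduct.tmul_zero, map_zero]))
      (hA.1 (by rw [LinearMap.baseChange_tmul, hx, TensorProduct.tmul_zero, map_zero]))
  have hker : LinearMap.ker p = K₀ := le_antisymm (fun x hx =>
    (Submodule.Quotient.mk_eq_zero K₀).1 (hinj (by simpa [q] using hx))) hK₀
  refine Module.finitePresentation_of_surjective p hp ?_
  rw [hker]
  exact ⟨_, rfl⟩

end pair

end Groth.Agent.MilnorH7
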